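import Cfsg.Agent.H163.E6.Defs
import Cfsg.Agent.S0892
import Cfsg.Agent.S2119
import Cfsg.Agent.H333.E6Act

/-!
# S5927: the preimage of an alternating group in the simply connected group (helper16)

`exists_lift`, `perfect`, `not_comm`, `seven` of `tools/plans/S5927_stubs.lean`.
-/

set_option autoImplicit false
set_option linter.unusedSectionVars false

namespace Cfsg.Agent.H163.E6.Cov

open Cfsg Cfsg.Lie Module Subgroup Equiv
open Cfsg.Agent.ChevalleyStructure.E6Min.Tables Cfsg.Agent.ChevalleyStructure.E6Min.Basic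
  Cfsg.Agent.ChevalleyStructure.E6Min.Adjoint
open Cfsg.Agent.H952.F4 (ev es matRep MaxAlt)

universe u

/-! ### general lemmas -/

section gen
variable {G K A : Type*} [Group G] [Group K] [Group A]

/-- lifting when the derived subgroup of the preimage meets the kernel trivially -/
theorem lift_of (π : G →* K) (φ : A →* K) (hs : Function.Surjective π) (hA : commutator A = ⊤)
    (hD : ∀ g ∈ ⁅φ.range.comap π, φ.range.comap π⁆, π g = 1 → g = 1) :
    ∃ ψ : A →* G, ∀ a, π (ψ a) = φ a := by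
  have h1 : (⁅φ.range.comap π, φ.range.comap π⁆).map π = φ.range := by
    rw [Subgroup.map_commutator, Subgroup.map_comap_eq_self_of_surjective hs, MonoidHom.range_eq_map,
      ← Subgroup.map_commutator]
    exact congrArg (Subgroup.map φ) hA
  have h2 : ∀ a, ∃ g ∈ ⁅φ.range.comap π, φ.range.comap π⁆, π g = φ a := by
    intro a
    have h3 : φ a ∈ (⁅φ.range.comap π, φ.range.comap π⁆).map π := by rw [h1]; exact ⟨a, rfl⟩
    exact h3
  choose f hf hfa using h2
  refine ⟨MonoidHom.mk' f ?_, hfa⟩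
  intro a b
  have h4 := hD ((f (a * b))⁻¹ * (f a * f b)) (mul_mem (inv_mem (hf _)) (mul_mem (hf _) (hf _))) (by
    rw [map_mul, map_mul, map_inv, hfa, hfa, hfa, map_mul, inv_mul_cancel])
  exact inv_mul_eq_one.mp h4

/-- Gaschütz: central elements of order 3 in the derived subgroup, abelian Sylow 3-subgroup -/
theorem eq_one_of_transfer {P : Type*} [Group P] [Finite P] (S : Subgroup P)
    (hS : ∀ a ∈ S, ∀ b ∈ S, a * b = b * a) (hidx : Nat.Coprime S.index 3) {z : P} (hz : ∀ g, g * z = z * g)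
    (hz3 : z ^ 3 = 1) (hzc : z ∈ commutator P) : z = 1 := by
  let _ : CommGroup ↥S := { (inferInstance : Group ↥S) with
    mul_comm := fun a b => Subtype.ext (hS a a.2 b b.2) }
  have hk : ∀ (k : ℕ) (g₀ : P), g₀⁻¹ * z ^ k * g₀ = z ^ k := by
    intro k g₀
    have h1 : Commute g₀ z := hz g₀
    rw [mul_assoc, ← (h1.pow_right k).eq, inv_mul_cancel_left]
  have h1 := MonoidHom.transfer_eq_pow (MonoidHom.id ↥S) z (fun k g₀ _ => hk k g₀)
  have h2 : MonoidHom.transfer (MonoidHom.id ↥S) z = 1 := Abelianization.commutator_subset_ker _ hzc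
  rw [h2] at h1
  have h3 : z ^ S.index = 1 := (congrArg Subtype.val h1).symm
  have h4 : z ^ Nat.gcd S.index 3 = 1 := by
    rw [pow_gcd_eq_one]
    exact ⟨h3, hz3⟩
  rwa [hidx, pow_one] at h4

end gen

/-! ### scalars -/

section scalars
variable {F : Type u} [Field F]

theorem scal_mul (c d : Fˣ) : (scal (c * d) : GL I27 F) = scal c * scal d := map_mul _ _ _

theorem scal_one : (scal (1 : Fˣ) : GL I27 F) = 1 := map_one _

theorem scal_inv (c : Fˣ) : (scal c⁻¹ : GL I27 F) = (scal c)⁻¹ := map_inv _ _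

theorem scal_pow (c : Fˣ) (k : ℕ) : (scal (c ^ k) : GL I27 F) = scal c ^ k := map_pow _ _ _

theorem scal_injective {c d : Fˣ} (h : (scal c : GL I27 F) = scal d) : c = d := by
  have h1 : algebraMap F (Matrix I27 I27 F) (c : F) = algebraMap F (Matrix I27 I27 F) (d : F) :=
    congrArg Units.val h
  exact Units.ext ((algebraMap F (Matrix I27 I27 F)).injective h1)

/-- cube roots of unity are powers of a given one -/
theorem cases_root {ω c : Fˣ} (h1 : ω ≠ 1) (h3 : ω ^ 3 = 1) (hc : c ^ 3 = 1) : c = 1 ∨ c = ω ∨ c = ω⁻¹ := by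
  have e1 : (ω : F) ^ 3 = 1 := by rw [← Units.val_pow_eq_pow_val, h3, Units.val_one]
  have e2 : (c : F) ^ 3 = 1 := by rw [← Units.val_pow_eq_pow_val, hc, Units.val_one]
  have e3 : (ω : F) - 1 ≠ 0 := fun h => h1 (Units.ext (by rw [Units.val_one]; linear_combination h))
  have e4 : (ω : F) ^ 2 + ω + 1 = 0 := by
    have : ((ω : F) - 1) * ((ω : F) ^ 2 + ω + 1) = 0 := by linear_combination e1
    exact (mul_eq_zero.mp this).resolve_left e3
  have e5 : ((c : F) - 1) * (((c : F) - ω) * ((c : F) - ω ^ 2)) = 0 := by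
    linear_combination e2 - ((c : F) - 1) * (c : F) * e4 + ((c : F) - 1) * e1
  rcases mul_eq_zero.mp e5 with h | h
  · left; exact Units.ext (by rw [Units.val_one]; linear_combination h)
  right
  rcases mul_eq_zero.mp h with h | h
  · left; exact Units.ext (by linear_combination h)
  · right
    have e6 : ω⁻¹ = ω ^ 2 := by rw [inv_eq_iff_mul_eq_one, ← h3]; exact (pow_succ' ω 2).symm
    rw [e6]
    exact Units.ext (by rw [Units.val_pow_eq_pow_val]; linear_combination h)

theorem three_ne {ω : Fˣ} (h1 : ω ≠ 1) (h3 : ω ^ 3 = 1) : (3 : F) ≠ 0 := by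
  intro h0
  have e1 : (ω : F) ^ 3 = 1 := by rw [← Units.val_pow_eq_pow_val, h3, Units.val_one]
  have e2 : ((ω : F) - 1) ^ 3 = 0 := by linear_combination e1 - ((ω : F) ^ 2 - ω) * h0
  have e3 : (ω : F) - 1 = 0 := pow_eq_zero_iff (three_ne_zero) |>.mp e2
  exact h1 (Units.ext (by rw [Units.val_one]; linear_combination e3))

/-- elements of the kernel of `ad` are central -/
theorem ker_comm {z : ↥(Zgrp F)} (hz : ad F z = 1) (g : ↥(Zgrp F)) : g * z = z * g := by
  have h : z ∈ Subgroup.center ↥(Zgrp F) := by rw [← ker_ad, MonoidHom.mem_ker]; exact hz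
  exact Subgroup.mem_center_iff.mp h g

theorem ker_pow {z : ↥(Zgrp F)} (hz : ad F z = 1) : z ^ 3 = 1 := by
  obtain ⟨c, hc, h⟩ := (Act.ad_eq_one_iff z).mp hz
  apply Subtype.ext
  rw [Subgroup.coe_pow, h, ← scal_pow, hc, scal_one]
  rfl

theorem ad_scal {ω : Fˣ} (h3 : ω ^ 3 = 1) {z : ↥(Zgrp F)} (hz : (z : GL I27 F) = scal ω) : ad F z = 1 :=
  (Act.ad_eq_one_iff z).mpr ⟨ω, h3, hz⟩

theorem ker_cases {ω : Fˣ} (h1 : ω ≠ 1) (h3 : ω ^ 3 = 1) {z : ↥(Zgrp F)} (hz : (z : GL I27 F) = scal ω)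
    {w : ↥(Zgrp F)} (hw : ad F w = 1) : w = 1 ∨ w = z ∨ w = z⁻¹ := by
  obtain ⟨c, hc, h⟩ := (Act.ad_eq_one_iff w).mp hw
  rcases cases_root h1 h3 hc with rfl | rfl | rfl
  · left; apply Subtype.ext; rw [h, scal_one]; rfl
  · right; left; apply Subtype.ext; rw [h, hz]
  · right; right; apply Subtype.ext; rw [h, scal_inv, ← hz]; rfl

end scalars

section main
variable {F : Type u} [Field F] {A : Type*} [Group A] {φ : A →* ↥(chevE6.group F)}

/-- the whole kernel is contained in the derived group of the preimage -/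
theorem ker_le {ω : Fˣ} (hc : Cover φ ω) {w : ↥(Zgrp F)} (hw : ad F w = 1) :
    w ∈ (⁅(φ.range.comap (ad F)), (φ.range.comap (ad F))⁆ : Subgroup ↥(Zgrp F)) := by
  obtain ⟨h1, h3, z, hz, hzm⟩ := hc
  rcases ker_cases h1 h3 hz hw with rfl | rfl | rfl
  · exact one_mem _
  · exact hzm
  · exact inv_mem hzm

theorem perfect_aux (hA : commutator A = ⊤) {ω : Fˣ} (hc : Cover φ ω) :
    ⁅(φ.range.comap (ad F)), (φ.range.comap (ad F))⁆ = φ.range.comap (ad F) := by
  apply le_antisymm
  · refine Subgroup.commutator_le.mpr fun a ha b hb => ?_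
    rw [commutatorElement_def]
    exact mul_mem (mul_mem (mul_mem ha hb) (inv_mem ha)) (inv_mem hb)
  · intro g hg
    have h1 : (⁅φ.range.comap (ad F), φ.range.comap (ad F)⁆).map (ad F) = φ.range := by
      rw [Subgroup.map_commutator, Subgroup.map_comap_eq_self_of_surjective ad_surjective, MonoidHom.range_eq_map,
        ← Subgroup.map_commutator]
      exact congrArg (Subgroup.map φ) hA
    have h2 : ad F g ∈ (⁅φ.range.comap (ad F), φ.range.comap (ad F)⁆).map (ad F) := by
      rw [h1]; exact hg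
    obtain ⟨k, hk, hkg⟩ := h2
    have h3 := ker_le hc (w := k⁻¹ * g) (by rw [map_mul, map_inv, hkg, inv_mul_cancel])
    have h4 := mul_mem hk h3
    rwa [mul_inv_cancel_left] at h4

/-- the derived group of the alternating group -/
theorem alt_perfect {n : ℕ} (hn : 5 ≤ n) : commutator ↥(alternatingGroup (Fin n)) = ⊤ :=
  commutator_alternatingGroup_eq_top (by rw [Nat.card_eq_fintype_card, Fintype.card_fin]; exact hn)

end main

variable {F : Type u} [Field F] [Finite F] {H : Subgroup ↥(chevE6.group F)} {n : ℕ}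
  {φ : ↥(alternatingGroup (Fin n)) →* ↥(chevE6.group F)}

/-- the full preimage of the alternating group is perfect -/
theorem perfect (hn : 5 ≤ n) (_hφ : Function.Injective φ) {ω : Fˣ} (hc : Cover φ ω) :
    ⁅(φ.range.comap (ad F)), (φ.range.comap (ad F))⁆ = φ.range.comap (ad F) :=
  perfect_aux (alt_perfect hn) hc

/-! ### the projection of the preimage to the alternating group -/

/-- the projection of the preimage -/
noncomputable def pr (hφ : Function.Injective φ) :
    ↥(φ.range.comap (ad F)) →* ↥(alternatingGroup (Fin n)) :=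
  ((MonoidHom.ofInjective hφ).symm : ↥φ.range →* ↥(alternatingGroup (Fin n))).comp
    ((ad F).subgroupComap φ.range)

omit [Finite F] in
theorem phi_pr (hφ : Function.Injective φ) (g : ↥(φ.range.comap (ad F))) : φ (pr hφ g) = ad F g := by
  have h := congrArg Subtype.val ((MonoidHom.ofInjective hφ).apply_symm_apply ((ad F).subgroupComap φ.range g))
  exact h

omit [Finite F] in
theorem pr_surjective (hφ : Function.Injective φ) : Function.Surjective (pr hφ) := by
  intro a
  obtain ⟨g, hg⟩ := ad_surjective (φ a)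
  refine ⟨⟨g, Subgroup.mem_comap.mpr ⟨a, hg.symm⟩⟩, hφ ?_⟩
  rw [phi_pr]
  exact hg

omit [Finite F] in
theorem pr_eq_one (hφ : Function.Injective φ) (g : ↥(φ.range.comap (ad F))) : pr hφ g = 1 ↔ ad F g = 1 := by
  rw [← phi_pr hφ]
  constructor
  · intro h; rw [h, map_one]
  · intro h; exact hφ (by rw [h, map_one])

theorem exists_lift (hn : 5 ≤ n) (hφ : Function.Injective φ) : (∃ ψ : ↥(alternatingGroup (Fin n)) →* ↥(Zgrp F), Lift φ ψ) ∨
    ((n = 6 ∨ n = 7) ∧ (3 : F) ≠ 0 ∧ ∃ ω : Fˣ, Cover φ ω) := by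
  by_cases hD : ∀ g ∈ ⁅φ.range.comap (ad F), φ.range.comap (ad F)⁆, ad F g = 1 → g = 1
  · exact Or.inl (lift_of (ad F) φ ad_surjective (alt_perfect hn) hD)
  right
  push Not at hD
  obtain ⟨z, hzD, hz1, hz⟩ := hD
  obtain ⟨ω, h3, hω⟩ := (Act.ad_eq_one_iff z).mp hz1
  have h1 : ω ≠ 1 := by
    rintro rfl
    exact hz (Subtype.ext (by rw [hω, scal_one]; rfl))
  have hc : Cover φ ω := ⟨h1, h3, z, hω, hzD⟩
  refine ⟨?_, three_ne h1 h3, ω, hc⟩
  by_contra hne
  push Not at hne
  let Z : Subgroup ↥(φ.range.comap (ad F)) := (pr hφ).ker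
  have hZc : Z ≤ Subgroup.center ↥(φ.range.comap (ad F)) := by
    intro w hw
    rw [Subgroup.mem_center_iff]
    intro g
    exact Subtype.ext (ker_comm ((pr_eq_one hφ w).mp hw) g)
  have hZd : Z ≤ commutator ↥(φ.range.comap (ad F)) := by
    intro w hw
    have h4 := ker_le hc ((pr_eq_one hφ w).mp hw)
    rw [← Subgroup.map_subtype_commutator] at h4
    obtain ⟨w', hw', he⟩ := h4
    have : w' = w := Subtype.ext he
    rwa [← this]
  have h5 := S0892.result n (by omega) hne.1 hne.2 Z hZc hZd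
    (QuotientGroup.quotientKerEquivOfSurjective (pr hφ) (pr_surjective hφ))
  -- the kernel has an element of order 3
  have hzP : z ∈ φ.range.comap (ad F) := by
    rw [Subgroup.mem_comap, hz1]; exact one_mem _
  have h6 : (⟨z, hzP⟩ : ↥(φ.range.comap (ad F))) ∈ Z := (pr_eq_one hφ _).mpr hz1
  have h7 : orderOf (⟨⟨z, hzP⟩, h6⟩ : ↥Z) = 3 := by
    refine orderOf_eq_prime ?_ ?_
    · exact Subtype.ext (Subtype.ext (ker_pow hz1))
    · intro h
      exact hz (congrArg (fun t : ↥Z => ((t : ↥(φ.range.comap (ad F))) : ↥(Zgrp F))) h)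
  have h8 := orderOf_dvd_natCard (⟨⟨z, hzP⟩, h6⟩ : ↥Z)
  rw [h7] at h8
  have h9 := Nat.le_of_dvd Nat.card_pos h8
  omega

/-! ### lifts of elements of order 3 -/

omit [Finite F] in
/-- lifts of real elements of order 3 have order 3 -/
theorem cube_of_real {g x : ↥(Zgrp F)} (hx3 : ad F x ^ 3 = 1) (hg : ad F (g * x * g⁻¹) = (ad F x)⁻¹) : x ^ 3 = 1 := by
  -- `g x g⁻¹ = x⁻¹ z`
  have hz : ad F (x * (g * x * g⁻¹)) = 1 := by rw [map_mul, hg, mul_inv_cancel]
  set z := x * (g * x * g⁻¹) with hzd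
  have h1 : g * x * g⁻¹ = x⁻¹ * z := by rw [hzd, inv_mul_cancel_left]
  have hw : ad F (x ^ 3) = 1 := by rw [map_pow, hx3]
  have h2 : (g * x * g⁻¹) ^ 3 = x ^ 3 := by
    rw [conj_pow, ker_comm hw, mul_inv_cancel_right]
  have h3 : (x⁻¹ * z) ^ 3 = (x ^ 3)⁻¹ := by
    have h4 : Commute x⁻¹ z := ker_comm hz _
    rw [h4.mul_pow, ker_pow hz, mul_one, inv_pow]
  have h5 : (x ^ 3) ^ 2 = 1 := by
    rw [pow_two]
    nth_rw 1 [← h2]
    rw [h1, h3, inv_mul_cancel]
  have h6 : (x ^ 3) ^ 3 = 1 := ker_pow hw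
  have h7 : (x ^ 3) ^ 3 = (x ^ 3) ^ 2 * x ^ 3 := pow_succ _ _
  rw [h6, h5, one_mul] at h7
  exact h7.symm

theorem three_inv {a : ↥(alternatingGroup (Fin n))} (hn : 5 ≤ n) (ha : (a : Perm (Fin n)).cycleType = {3}) :
    ∃ c : ↥(alternatingGroup (Fin n)), c * a * c⁻¹ = a⁻¹ := by
  have h1 : Perm.IsThreeCycle (a : Perm (Fin n)) := ha
  have h2 : Perm.IsThreeCycle ((a⁻¹ : ↥(alternatingGroup (Fin n))) : Perm (Fin n)) := h1.inv
  exact isConj_iff.mp (alternatingGroup.isThreeCycle_isConj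
    (by rw [Nat.card_eq_fintype_card, Fintype.card_fin]; exact hn) h1 h2)

theorem cube_three (hn : 5 ≤ n) {a : ↥(alternatingGroup (Fin n))} (ha : (a : Perm (Fin n)).cycleType = {3})
    {x : ↥(Zgrp F)} (hx : ad F x = φ a) : x ^ 3 = 1 := by
  obtain ⟨c, hc⟩ := three_inv hn ha
  obtain ⟨g, hg⟩ := ad_surjective (φ c)
  refine cube_of_real (g := g) ?_ ?_
  · have h1 : a ^ 3 = 1 := Subtype.ext (by
      have h2 := (show Perm.IsThreeCycle (a : Perm (Fin n)) from ha).orderOf
      have h3 := pow_orderOf_eq_one (a : Perm (Fin n))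
      rw [h2] at h3
      exact h3)
    rw [hx, ← map_pow, h1, map_one]
  · rw [map_mul, map_mul, map_inv, hg, hx, ← map_inv, ← map_inv, ← map_mul, ← map_mul, hc]

/-- two disjoint 3-cycles generate a Sylow 3-subgroup of `A₆`, `A₇` -/
theorem index_coprime (hn : n = 6 ∨ n = 7) {a b : ↥(alternatingGroup (Fin n))}
    (ha : (a : Perm (Fin n)).cycleType = {3}) (hb : (b : Perm (Fin n)).cycleType = {3})
    (hab : (a : Perm (Fin n)).Disjoint b) : Nat.Coprime (Subgroup.closure {a, b}).index 3 := by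
  classical
  have h5 : 5 ≤ n := by omega
  have hcm : a * b = b * a := Subtype.ext hab.commute.eq
  have hoa : orderOf a = 3 := by
    rw [← Subgroup.orderOf_coe]; exact (show Perm.IsThreeCycle (a : Perm (Fin n)) from ha).orderOf
  have hob : orderOf b = 3 := by
    rw [← Subgroup.orderOf_coe]; exact (show Perm.IsThreeCycle (b : Perm (Fin n)) from hb).orderOf
  -- the product map
  let f : ↥(Subgroup.zpowers a) × ↥(Subgroup.zpowers b) →* ↥(Subgroup.closure {a, b}) :=
    MonoidHom.mk' (fun u => ⟨u.1 * u.2, mul_mem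
      ((Subgroup.zpowers_le.mpr (Subgroup.subset_closure (by simp))) u.1.2)
      ((Subgroup.zpowers_le.mpr (Subgroup.subset_closure (by simp))) u.2.2)⟩) (by
      rintro ⟨⟨u1, i, rfl⟩, ⟨u2, j, rfl⟩⟩ ⟨⟨v1, k, rfl⟩, ⟨v2, l, rfl⟩⟩
      apply Subtype.ext
      change a ^ i * a ^ k * (b ^ j * b ^ l) = a ^ i * b ^ j * (a ^ k * b ^ l)
      have h1 : Commute (a ^ k) (b ^ j) := (show Commute a b from hcm).zpow_zpow k j
      rw [mul_assoc, mul_assoc, ← mul_assoc (a ^ k), h1.eq, mul_assoc])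
  have hf : Function.Injective f := by
    rw [injective_iff_map_eq_one]
    rintro ⟨⟨u1, i, rfl⟩, ⟨u2, j, rfl⟩⟩ h
    have h1 : a ^ i * b ^ j = 1 := congrArg Subtype.val h
    have h2 : a ^ i = b ^ (-j) := by rw [zpow_neg]; exact eq_inv_of_mul_eq_one_left h1
    have h3 : ((a : Perm (Fin n)) ^ i).Disjoint ((b : Perm (Fin n)) ^ (-j)) := hab.zpow_disjoint_zpow i (-j)
    have h4 : (a : Perm (Fin n)) ^ i = (b : Perm (Fin n)) ^ (-j) := by
      have := congrArg Subtype.val h2
      simpa using this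
    rw [← h4, Perm.disjoint_refl_iff] at h3
    have h6 : a ^ i = 1 := Subtype.ext (by simpa using h3)
    have h7 : b ^ j = 1 := by rwa [h6, one_mul] at h1
    apply Prod.ext
    · exact Subtype.ext h6
    · exact Subtype.ext h7
  have h9 : 9 ∣ Nat.card ↥(Subgroup.closure {a, b}) := by
    have h1 := Subgroup.card_dvd_of_injective f hf
    rw [Nat.card_prod, Nat.card_zpowers, Nat.card_zpowers, hoa, hob] at h1
    exact h1
  obtain ⟨k, hk⟩ := h9
  have hc := Subgroup.card_mul_index (Subgroup.closure {a, b})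
  rw [hk] at hc
  have hA : Nat.card ↥(alternatingGroup (Fin n)) = 360 ∨ Nat.card ↥(alternatingGroup (Fin n)) = 2520 := by
    rcases hn with rfl | rfl
    · left
      rw [nat_card_alternatingGroup, Nat.card_fin]; rfl
    · right
      rw [nat_card_alternatingGroup, Nat.card_fin]; rfl
  have hd : (Subgroup.closure {a, b}).index ∣ 280 := by
    rcases hA with h | h
    · rw [h] at hc
      have : (Subgroup.closure {a, b}).index * k = 40 := by nlinarith
      exact (Dvd.intro k this).trans (by norm_num)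
    · rw [h] at hc
      exact ⟨k, by nlinarith⟩
  exact Nat.Coprime.coprime_dvd_left hd (by norm_num)

/-- lifts of `(0 1 2)`, `(3 4 5)` do not commute -/
theorem not_comm (hn : n = 6 ∨ n = 7) (hφ : Function.Injective φ) {ω : Fˣ} (hc : Cover φ ω)
    {a b : ↥(alternatingGroup (Fin n))} (ha : (a : Equiv.Perm (Fin n)).cycleType = {3})
    (hb : (b : Equiv.Perm (Fin n)).cycleType = {3}) (hab : (a : Equiv.Perm (Fin n)).Disjoint b)
    {x y : ↥(Zgrp F)} (hx : ad F x = φ a) (hy : ad F y = φ b) :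
    x ^ 3 = 1 ∧ ((x * y * x⁻¹ * y⁻¹ : ↥(Zgrp F)) : GL I27 F) = scal ω ∨
      x ^ 3 = 1 ∧ ((x * y * x⁻¹ * y⁻¹ : ↥(Zgrp F)) : GL I27 F) = scal (ω⁻¹) := by
  classical
  have h5 : 5 ≤ n := by omega
  have hx3 := cube_three h5 ha hx
  have hcm : a * b = b * a := Subtype.ext hab.commute.eq
  have hw : ad F (x * y * x⁻¹ * y⁻¹) = 1 := by
    rw [map_mul, map_mul, map_mul, map_inv, map_inv, hx, hy, ← map_inv, ← map_inv, ← map_mul, ← map_mul, ← map_mul,
      hcm, mul_inv_cancel_right, mul_inv_cancel, map_one]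
  obtain ⟨h1, h3, z, hz, hzm⟩ := id hc
  have hz1 : ad F z = 1 := ad_scal h3 hz
  rcases ker_cases h1 h3 hz hw with h | h | h
  · -- the lifts commute
    exfalso
    have hxy : x * y = y * x := by
      have h6 : x * y * x⁻¹ * y⁻¹ * (y * x) = 1 * (y * x) := by rw [h]
      rw [one_mul] at h6
      rw [← h6]; group
    have hxP : x ∈ φ.range.comap (ad F) := Subgroup.mem_comap.mpr ⟨a, hx.symm⟩
    have hyP : y ∈ φ.range.comap (ad F) := Subgroup.mem_comap.mpr ⟨b, hy.symm⟩
    have hzP : z ∈ φ.range.comap (ad F) := by rw [Subgroup.mem_comap, hz1]; exact one_mem _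
    set S := (Subgroup.closure {a, b}).comap (pr hφ) with hS
    -- elements of `S`
    let X : ↥(φ.range.comap (ad F)) := ⟨x, hxP⟩
    let Y : ↥(φ.range.comap (ad F)) := ⟨y, hyP⟩
    have hXa : pr hφ X = a := hφ (by rw [phi_pr]; exact hx)
    have hYb : pr hφ Y = b := hφ (by rw [phi_pr]; exact hy)
    have hXY : Commute X Y := Subtype.ext hxy
    have hmem : ∀ t : ↥(alternatingGroup (Fin n)), t ∈ Subgroup.closure {a, b} → ∃ i j : ℤ, t = a ^ i * b ^ j := by
      intro t ht
      have hc1 : Commute a b := hcm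
      induction ht using Subgroup.closure_induction with
      | mem u hu =>
        rcases hu with rfl | hu
        · exact ⟨1, 0, by rw [zpow_one, zpow_zero, mul_one]⟩
        · rw [Set.mem_singleton_iff.mp hu]
          exact ⟨0, 1, by rw [zpow_one, zpow_zero, one_mul]⟩
      | one => exact ⟨0, 0, by rw [zpow_zero, zpow_zero, mul_one]⟩
      | mul u v _ _ hu hv =>
        obtain ⟨i, j, rfl⟩ := hu
        obtain ⟨k, l, rfl⟩ := hv
        refine ⟨i + k, j + l, ?_⟩
        rw [zpow_add, zpow_add, mul_assoc, mul_assoc, ← mul_assoc (b ^ j), ← (hc1.zpow_zpow k j).eq, mul_assoc]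
      | inv u _ hu =>
        obtain ⟨i, j, rfl⟩ := hu
        refine ⟨-i, -j, ?_⟩
        rw [mul_inv_rev, zpow_neg, zpow_neg, ← zpow_neg, ← zpow_neg, (hc1.zpow_zpow (-i) (-j)).eq]
    have hSel : ∀ s ∈ S, ∃ (i j : ℤ) (w : ↥(φ.range.comap (ad F))), pr hφ w = 1 ∧ s = X ^ i * Y ^ j * w := by
      intro s hs
      obtain ⟨i, j, hij⟩ := hmem _ hs
      refine ⟨i, j, (X ^ i * Y ^ j)⁻¹ * s, ?_, (mul_inv_cancel_left _ _).symm⟩
      rw [map_mul, map_inv, map_mul, map_zpow, map_zpow, hXa, hYb, hij, inv_mul_cancel]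
    have hkc : ∀ w : ↥(φ.range.comap (ad F)), pr hφ w = 1 → ∀ g, Commute g w := fun w hw g =>
      Subtype.ext (ker_comm ((pr_eq_one hφ w).mp hw) g)
    have hab' : ∀ s ∈ S, ∀ t ∈ S, s * t = t * s := by
      intro s hs t ht
      obtain ⟨i, j, w, hw, rfl⟩ := hSel s hs
      obtain ⟨k, l, v, hv, rfl⟩ := hSel t ht
      have c1 : Commute (X ^ i * Y ^ j) (X ^ k * Y ^ l) := by
        refine Commute.mul_left (Commute.mul_right ((Commute.refl X).zpow_zpow i k) (hXY.zpow_zpow i l))
          (Commute.mul_right (hXY.symm.zpow_zpow j k) ((Commute.refl Y).zpow_zpow j l))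
      exact (Commute.mul_left (Commute.mul_right c1 (hkc v hv _))
        (Commute.mul_right (hkc w hw _).symm (hkc v hv _))).eq
    have hidx : Nat.Coprime S.index 3 := by
      rw [hS, Subgroup.index_comap_of_surjective _ (pr_surjective hφ)]
      exact index_coprime hn ha hb hab
    have hZ : (⟨z, hzP⟩ : ↥(φ.range.comap (ad F))) ∈ commutator ↥(φ.range.comap (ad F)) := by
      have h4 := hzm
      rw [← Subgroup.map_subtype_commutator] at h4
      obtain ⟨w', hw', he⟩ := h4
      have : w' = ⟨z, hzP⟩ := Subtype.ext he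
      rwa [← this]
    have h8 := eq_one_of_transfer S hab' hidx (z := ⟨z, hzP⟩)
      (fun g => Subtype.ext (ker_comm hz1 g)) (Subtype.ext (ker_pow hz1)) hZ
    have h9 : z = 1 := congrArg Subtype.val h8
    rw [h9] at hz
    exact h1 (scal_injective (F := F) (by rw [scal_one, ← hz]; rfl))
  · left; exact ⟨hx3, by rw [h, hz]⟩
  · right; exact ⟨hx3, by rw [h, scal_inv, ← hz]; rfl⟩

/-- `H = A₇` in the cover case -/
theorem seven (hn : n = 7) (hM : MaxAlt H n φ) {ω : Fˣ} (hc : Cover φ ω) : H = φ.range := by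
  subst hn
  classical
  refine le_antisymm ?_ hM.le
  intro h hh
  -- the automorphism
  have hex : ∀ g ∈ H, ∀ x, ∃ y, φ y = g * φ x * g⁻¹ := fun g hg x => hM.norm g hg (φ x) ⟨x, rfl⟩
  choose f hf using hex h hh
  have hinj : Function.Injective f := by
    intro x y hxy
    have h1 := hf x
    rw [hxy, hf y] at h1
    exact hM.inj (mul_left_cancel (mul_right_cancel h1)).symm
  let α : MulAut ↥(alternatingGroup (Fin 7)) := MulEquiv.ofBijective
    (MonoidHom.mk' f (fun x y => hM.inj (by rw [hf, map_mul, map_mul, hf, hf]; group)))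
    (Finite.injective_iff_bijective.mp hinj)
  obtain ⟨s, hs⟩ := (S2119.result 7 (by norm_num) (by norm_num)).2 α
  have hs' : ∀ x : ↥(alternatingGroup (Fin 7)), ((f x : ↥(alternatingGroup (Fin 7))) : Perm (Fin 7)) = s * x * s⁻¹ := by
    intro x
    have h1 : (MulAut.conjNormal s x : ↥(alternatingGroup (Fin 7))) = f x := by rw [hs]; rfl
    rw [← h1, MulAut.conjNormal_apply]
  rcases Int.units_eq_one_or (Perm.sign s) with hsg | hsg
  · -- even
    let t : ↥(alternatingGroup (Fin 7)) := ⟨s, Perm.mem_alternatingGroup.mpr hsg⟩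
    have hft : ∀ x, f x = t * x * t⁻¹ := fun x => Subtype.ext (hs' x)
    let B : Subgroup ↥(chevE6.group F) := H ⊓ Subgroup.centralizer (φ.range : Set ↥(chevE6.group F))
    have hB : B = ⊥ := by
      by_contra hne
      have h1 := hM.min B inf_le_left (by
        intro g hg b hb
        refine Subgroup.mem_inf.mpr ⟨mul_mem (mul_mem hg hb.1) (inv_mem hg), ?_⟩
        rw [Subgroup.mem_centralizer_iff]
        intro c hc'
        have h2 : g⁻¹ * c * g ∈ φ.range := by
          have := hM.norm g⁻¹ (inv_mem hg) c hc'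
          rwa [inv_inv] at this
        have h3 := Subgroup.mem_centralizer_iff.mp hb.2 _ h2
        calc c * (g * b * g⁻¹) = g * (g⁻¹ * c * g * b) * g⁻¹ := by group
          _ = g * (b * (g⁻¹ * c * g)) * g⁻¹ := by rw [h3]
          _ = g * b * g⁻¹ * c := by group) hne
      have h2 : ∀ x y : ↥(alternatingGroup (Fin 7)), x * y = y * x := by
        intro x y
        apply hM.inj
        rw [map_mul, map_mul]
        exact Subgroup.mem_centralizer_iff.mp (h1 (show φ y ∈ φ.range from ⟨y, rfl⟩)).2 _ ⟨x, rfl⟩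
      have h3 := h2 ⟨swap 0 1 * swap 1 2, by rw [Perm.mem_alternatingGroup]; decide⟩
        ⟨swap 1 2 * swap 2 3, by rw [Perm.mem_alternatingGroup]; decide⟩
      exact absurd (congrArg Subtype.val h3) (by decide)
    have hm : h * (φ t)⁻¹ ∈ B := by
      refine Subgroup.mem_inf.mpr ⟨mul_mem hh (inv_mem (hM.le ⟨t, rfl⟩)), ?_⟩
      rw [Subgroup.mem_centralizer_iff]
      rintro _ ⟨x, rfl⟩
      have h1 : h * φ (t⁻¹ * x * t) * h⁻¹ = φ x := by
        rw [← hf, hft]; congr 1; group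
      rw [map_mul, map_mul, map_inv] at h1
      calc φ x * (h * (φ t)⁻¹) = h * ((φ t)⁻¹ * φ x * φ t) * h⁻¹ * (h * (φ t)⁻¹) := by rw [h1]
        _ = h * (φ t)⁻¹ * φ x := by group
    rw [hB, Subgroup.mem_bot] at hm
    exact ⟨t, (mul_inv_eq_one.mp hm).symm⟩
  · -- odd
    exfalso
    let t : ↥(alternatingGroup (Fin 7)) := ⟨s⁻¹ * swap 0 1, Perm.mem_alternatingGroup.mpr (by
      rw [map_mul, map_inv, hsg]; decide)⟩
    let a : ↥(alternatingGroup (Fin 7)) := ⟨swap 1 0 * swap 1 2, by rw [Perm.mem_alternatingGroup]; decide⟩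
    let b : ↥(alternatingGroup (Fin 7)) := ⟨swap 4 3 * swap 4 5, by rw [Perm.mem_alternatingGroup]; decide⟩
    have ha : (a : Perm (Fin 7)).cycleType = {3} := by
      have h1 : Perm.IsThreeCycle (swap (1 : Fin 7) 0 * swap 1 2) :=
        Perm.isThreeCycle_swap_mul_swap_same (by decide) (by decide) (by decide)
      exact h1
    have hb : (b : Perm (Fin 7)).cycleType = {3} := by
      have h1 : Perm.IsThreeCycle (swap (4 : Fin 7) 3 * swap 4 5) :=
        Perm.isThreeCycle_swap_mul_swap_same (by decide) (by decide) (by decide)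
      exact h1
    have hab : (a : Perm (Fin 7)).Disjoint b := by
      intro i
      revert i
      decide
    obtain ⟨x, hx⟩ := ad_surjective (φ a)
    obtain ⟨y, hy⟩ := ad_surjective (φ b)
    obtain ⟨k, hk⟩ := ad_surjective (h * φ t)
    have hconj : ∀ c : ↥(alternatingGroup (Fin 7)), ∀ d : ↥(alternatingGroup (Fin 7)),
        (swap 0 1 * (c : Perm (Fin 7)) * (swap 0 1)⁻¹ = (d : Perm (Fin 7))) → (h * φ t) * φ c * (h * φ t)⁻¹ = φ d := by
      intro c d hcd
      have h1 : f (t * c * t⁻¹) = d := by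
        apply Subtype.ext
        rw [hs', ← hcd]
        change s * (s⁻¹ * swap 0 1 * (c : Perm (Fin 7)) * (s⁻¹ * swap 0 1)⁻¹) * s⁻¹ = _
        group
      rw [← h1, hf, map_mul, map_mul, map_inv]
      group
    have hka : ad F (k * x * k⁻¹) = φ a⁻¹ := by
      rw [map_mul, map_mul, map_inv, hk, hx]
      exact hconj a a⁻¹ (by decide)
    have hkb : ad F (k * y * k⁻¹) = φ b := by
      rw [map_mul, map_mul, map_inv, hk, hy]
      exact hconj b b (by decide)
    -- the two correction terms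
    have hz1 : ad F (x * (k * x * k⁻¹)) = 1 := by rw [map_mul, hx, hka, ← map_mul, mul_inv_cancel, map_one]
    have hz2 : ad F (y⁻¹ * (k * y * k⁻¹)) = 1 := by rw [map_mul, map_inv, hy, hkb, inv_mul_cancel]
    set z1 := x * (k * x * k⁻¹) with hz1d
    set z2 := y⁻¹ * (k * y * k⁻¹) with hz2d
    have e1 : k * x * k⁻¹ = x⁻¹ * z1 := by rw [hz1d, inv_mul_cancel_left]
    have e2 : k * y * k⁻¹ = y * z2 := by rw [hz2d, mul_inv_cancel_left]
    have hw : ad F (x * y * x⁻¹ * y⁻¹) = 1 := by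
      have hcm : a * b = b * a := Subtype.ext hab.commute.eq
      rw [map_mul, map_mul, map_mul, map_inv, map_inv, hx, hy, ← map_inv, ← map_inv, ← map_mul, ← map_mul, ← map_mul,
        hcm, mul_inv_cancel_right, mul_inv_cancel, map_one]
    set w := x * y * x⁻¹ * y⁻¹ with hwd
    have hwc := ker_comm hw
    have e3 : k * w * k⁻¹ = w := by rw [hwc k, mul_inv_cancel_right]
    have e4 : k * w * k⁻¹ = (k * x * k⁻¹) * (k * y * k⁻¹) * (k * x * k⁻¹)⁻¹ * (k * y * k⁻¹)⁻¹ := by
      rw [hwd]; group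
    have e5 : (x⁻¹ * z1) * (y * z2) * (x⁻¹ * z1)⁻¹ * (y * z2)⁻¹ = x⁻¹ * y * x * y⁻¹ := by
      have c1 := ker_comm hz1
      have c2 := ker_comm hz2
      calc (x⁻¹ * z1) * (y * z2) * (x⁻¹ * z1)⁻¹ * (y * z2)⁻¹
          = x⁻¹ * (z1 * (y * (z2 * z1⁻¹ * x))) * z2⁻¹ * y⁻¹ := by group
        _ = x⁻¹ * ((y * (z2 * z1⁻¹ * x)) * z1) * z2⁻¹ * y⁻¹ := by rw [c1]
        _ = x⁻¹ * y * (z2 * (z1⁻¹ * x * z1)) * z2⁻¹ * y⁻¹ := by group
        _ = x⁻¹ * y * ((z1⁻¹ * x * z1) * z2) * z2⁻¹ * y⁻¹ := by rw [c2]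
        _ = x⁻¹ * y * (z1⁻¹ * (x * z1)) * y⁻¹ := by group
        _ = x⁻¹ * y * (z1⁻¹ * (z1 * x)) * y⁻¹ := by rw [c1]
        _ = x⁻¹ * y * x * y⁻¹ := by group
    have e6 : w * (x⁻¹ * y * x * y⁻¹) = 1 := by
      calc w * (x⁻¹ * y * x * y⁻¹) = (w * x⁻¹) * (y * x * y⁻¹) := by group
        _ = (x⁻¹ * w) * (y * x * y⁻¹) := by rw [hwc]
        _ = 1 := by rw [hwd]; group
    rw [e1, e2, e5] at e4
    have e7 : w * w = 1 := by
      rw [e3] at e4
      nth_rw 2 [e4]
      exact e6
    have e8 : w ^ 3 = 1 := ker_pow hw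
    have e9 : w = 1 := by
      have : w ^ 3 = w * w * w := by rw [pow_succ, pow_two]
      rw [this, e7, one_mul] at e8
      exact e8
    have h1 := hc.1
    rcases not_comm (Or.inr rfl) hM.inj hc ha hb hab hx hy with h' | h'
    · have := h'.2
      rw [← hwd, e9] at this
      exact h1 (scal_injective (F := F) (by rw [scal_one, ← this]; rfl))
    · have := h'.2
      rw [← hwd, e9] at this
      exact h1 (inv_eq_one.mp (scal_injective (F := F) (by rw [scal_one, ← this]; rfl)))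

end Cfsg.Agent.H163.E6.Cov
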