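import Cfsg.Agent.H163.E6.Cen
import Cfsg.Agent.H882.E6Thirty
import Cfsg.Agent.H16.E6.Cov

/-!
# S5927, S5928: the covers in odd characteristic (helper16)

* `Alt6.aut` : an involutive automorphism of `A₆` fixing `(0 1 2)` and `(3 4 5)` is trivial (action on the ten Sylow
  3-subgroups);
* `Cov.seven_sit` : `H = A₇` in the cover case, from `Sit`;
* `Cov.cov_odd` : the cover case from `Cen` and an `H`-stable line of the Lie algebra.
-/

set_option autoImplicit false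
set_option linter.unusedSectionVars false

namespace Cfsg.Agent.H16.E6.Alt6

open Subgroup Equiv

section abs
variable {G : Type*} [Group G]

/-- an involutive automorphism centralizing `E` -/
theorem abs_fix (E N : Subgroup G) (f : G →* G) (hff : ∀ g, f (f g) = g) (hfE : ∀ e ∈ E, f e = e)
    (hfN : ∀ n ∈ N, f n ∈ N) (hE2 : ∀ e ∈ E, e * e = 1 → e = 1) {g0 : G} (hg0 : g0 ∉ N)
    (hdec : ∀ g, g ∈ N ∨ ∃ e ∈ E, ∃ n ∈ N, g = e * g0 * n) (hfree : ∀ e ∈ E, g0⁻¹ * e * g0 ∈ N → e = 1)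
    (hcore : N.normalCore = ⊥) (g : G) : f g = g := by
  have hfN' : ∀ g, f g ∈ N → g ∈ N := fun g hg => by
    have := hfN _ hg
    rwa [hff] at this
  obtain ⟨e0, he0, n0, hn0, h1⟩ := (hdec (f g0)).resolve_left (fun h => hg0 (hfN' _ h))
  have h2 : e0 * e0 = 1 := by
    have h3 : g0 = e0 * (e0 * g0 * n0) * f n0 := by
      have h4 := hff g0
      rw [h1, map_mul, map_mul, hfE e0 he0, h1] at h4
      exact h4.symm
    have h4 : g0⁻¹ * (e0 * e0) * g0 = (n0 * f n0)⁻¹ := by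
      rw [eq_inv_iff_mul_eq_one, show g0⁻¹ * (e0 * e0) * g0 * (n0 * f n0) = g0⁻¹ * (e0 * (e0 * g0 * n0) * f n0) by group,
        ← h3, inv_mul_cancel]
    refine hfree _ (mul_mem he0 he0) ?_
    rw [h4]
    exact inv_mem (mul_mem hn0 (hfN _ hn0))
  have h3 : e0 = 1 := hE2 _ he0 h2
  rw [h3, one_mul] at h1
  have h4 : ∀ g, g⁻¹ * f g ∈ N := by
    intro g
    rcases hdec g with h | ⟨e, he, n, hn, rfl⟩
    · exact mul_mem (inv_mem h) (hfN _ h)
    · rw [map_mul, map_mul, hfE e he, h1]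
      have : (e * g0 * n)⁻¹ * (e * (g0 * n0) * f n) = n⁻¹ * (n0 * f n) := by group
      rw [this]
      exact mul_mem (inv_mem hn) (mul_mem hn0 (hfN _ hn))
  have h5 : g⁻¹ * f g ∈ N.normalCore := by
    intro h
    have h6 := h4 (g * h⁻¹)
    rw [map_mul, map_inv] at h6
    have h7 : h⁻¹⁻¹ * (g⁻¹ * f g) * h⁻¹ = ((g * h⁻¹)⁻¹ * (f g * (f h)⁻¹)) * (f h * h⁻¹) := by group
    have h8 : f h * h⁻¹ ∈ N := by
      have := h4 h⁻¹
      rw [inv_inv, map_inv] at this
      have h9 := inv_mem this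
      rwa [mul_inv_rev, inv_inv] at h9
    have h9 : h * (g⁻¹ * f g) * h⁻¹ = ((g * h⁻¹)⁻¹ * (f g * (f h)⁻¹)) * (f h * h⁻¹) := by group
    rw [h9]
    exact mul_mem h6 h8
  rw [hcore, mem_bot, inv_mul_eq_one] at h5
  exact h5.symm

end abs

/-! ### the alternating group of degree 6 -/

def pa : Perm (Fin 6) := swap 0 1 * swap 1 2
def pb : Perm (Fin 6) := swap 3 4 * swap 4 5
def pg : Perm (Fin 6) := swap 2 3 * swap 0 1

set_option maxRecDepth 100000 in
theorem cent_a : ∀ g : Perm (Fin 6), Perm.sign g = 1 → g * pa = pa * g → ∃ i j : Fin 3, g = pa ^ (i : ℕ) * pb ^ (j : ℕ) := by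
  decide +kernel

theorem cent_b : ∀ g : Perm (Fin 6), Perm.sign g = 1 → g * pb = pb * g → ∃ i j : Fin 3, g = pa ^ (i : ℕ) * pb ^ (j : ℕ) := by
  decide +kernel

/-- `g` preserves the partition `{012 | 345}` -/
def ok (x y z : Fin 6) : Bool := (x.val / 3 == y.val / 3) && (y.val / 3 == z.val / 3)

theorem reach : ∀ x y z : Fin 6, x ≠ y → y ≠ z → x ≠ z → ok x y z = false → ∃ i j : Fin 3,
    ok ((pg⁻¹ * pa ^ (i : ℕ) * pb ^ (j : ℕ)) x) ((pg⁻¹ * pa ^ (i : ℕ) * pb ^ (j : ℕ)) y)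
      ((pg⁻¹ * pa ^ (i : ℕ) * pb ^ (j : ℕ)) z) = true := by
  decide +kernel

theorem ok_conj : ∀ x y z : Fin 6, x ≠ y → y ≠ z → x ≠ z → ok x y z = true →
    swap x y * swap y z = pa ∨ swap x y * swap y z = pa⁻¹ ∨ swap x y * swap y z = pb ∨ swap x y * swap y z = pb⁻¹ := by
  decide +kernel

theorem free : ∀ i j : Fin 3, (pg⁻¹ * pa ^ (i : ℕ) * pb ^ (j : ℕ) * pg) * pa * (pg⁻¹ * pa ^ (i : ℕ) * pb ^ (j : ℕ) * pg)⁻¹ * pa =
    pa * ((pg⁻¹ * pa ^ (i : ℕ) * pb ^ (j : ℕ) * pg) * pa * (pg⁻¹ * pa ^ (i : ℕ) * pb ^ (j : ℕ) * pg)⁻¹) → i = 0 ∧ j = 0 := by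
  decide +kernel

theorem pg_not : pg * pa * pg⁻¹ * pa ≠ pa * (pg * pa * pg⁻¹) := by decide +kernel


/-- the elements of the alternating group -/
def ea : ↥(alternatingGroup (Fin 6)) := ⟨pa, Perm.mem_alternatingGroup.2 (by decide)⟩
def eb : ↥(alternatingGroup (Fin 6)) := ⟨pb, Perm.mem_alternatingGroup.2 (by decide)⟩
def eg : ↥(alternatingGroup (Fin 6)) := ⟨pg, Perm.mem_alternatingGroup.2 (by decide)⟩

theorem coe_ea : (ea : Perm (Fin 6)) = pa := rfl
theorem coe_eb : (eb : Perm (Fin 6)) = pb := rfl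
theorem coe_eg : (eg : Perm (Fin 6)) = pg := rfl

theorem ea_pow : ea ^ 3 = 1 := Subtype.ext (by decide +kernel)
theorem eb_pow : eb ^ 3 = 1 := Subtype.ext (by decide +kernel)
theorem ea_eb : Commute ea eb := Subtype.ext (by decide +kernel)

theorem mem_cent_a {g : ↥(alternatingGroup (Fin 6))} (h : g * ea = ea * g) : ∃ i j : Fin 3, g = ea ^ (i : ℕ) * eb ^ (j : ℕ) := by
  obtain ⟨i, j, hij⟩ := cent_a g (Perm.mem_alternatingGroup.1 g.2) (congrArg Subtype.val h)
  exact ⟨i, j, Subtype.ext hij⟩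

theorem mem_cent_b {g : ↥(alternatingGroup (Fin 6))} (h : g * eb = eb * g) : ∃ i j : Fin 3, g = ea ^ (i : ℕ) * eb ^ (j : ℕ) := by
  obtain ⟨i, j, hij⟩ := cent_b g (Perm.mem_alternatingGroup.1 g.2) (congrArg Subtype.val h)
  exact ⟨i, j, Subtype.ext hij⟩

theorem comm_iff (g : ↥(alternatingGroup (Fin 6))) : g * ea = ea * g ↔ g * eb = eb * g := by
  constructor
  · intro h
    obtain ⟨i, j, rfl⟩ := mem_cent_a h
    exact ((ea_eb.pow_left _).mul_left ((Commute.refl eb).pow_left _)).eq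
  · intro h
    obtain ⟨i, j, rfl⟩ := mem_cent_b h
    exact (((Commute.refl ea).pow_left _).mul_left (ea_eb.symm.pow_left _)).eq

/-- the Sylow 3-subgroup -/
def E : Subgroup ↥(alternatingGroup (Fin 6)) where
  carrier := {g | g * ea = ea * g}
  mul_mem' {x y} hx hy := (Commute.mul_left (show Commute x ea from hx) (show Commute y ea from hy)).eq
  one_mem' := (Commute.one_left ea).eq
  inv_mem' {x} hx := (Commute.inv_left (show Commute x ea from hx)).eq

theorem mem_E {g : ↥(alternatingGroup (Fin 6))} : g ∈ E ↔ g * ea = ea * g := Iff.rfl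

/-- its normalizer -/
def N : Subgroup ↥(alternatingGroup (Fin 6)) := normalizer (E : Set ↥(alternatingGroup (Fin 6)))

theorem mem_N {g : ↥(alternatingGroup (Fin 6))} : g ∈ N ↔ ∀ h, h ∈ E ↔ g * h * g⁻¹ ∈ E := mem_normalizer_iff

/-- elements whose conjugate of `a` is one of `a^±1, b^±1` -/
theorem mem_N_of {g : ↥(alternatingGroup (Fin 6))}
    (h : g * ea * g⁻¹ = ea ∨ g * ea * g⁻¹ = ea⁻¹ ∨ g * ea * g⁻¹ = eb ∨ g * ea * g⁻¹ = eb⁻¹) : g ∈ N := by
  rw [mem_N]
  intro x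
  have h1 : x ∈ E ↔ Commute (g * x * g⁻¹) (g * ea * g⁻¹) := by
    rw [mem_E]
    constructor
    · intro hx
      change g * x * g⁻¹ * (g * ea * g⁻¹) = g * ea * g⁻¹ * (g * x * g⁻¹)
      calc g * x * g⁻¹ * (g * ea * g⁻¹) = g * (x * ea) * g⁻¹ := by group
        _ = g * (ea * x) * g⁻¹ := by rw [hx]
        _ = _ := by group
    · intro hx
      have h2 : g * (x * ea) * g⁻¹ = g * (ea * x) * g⁻¹ := by
        calc g * (x * ea) * g⁻¹ = g * x * g⁻¹ * (g * ea * g⁻¹) := by group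
          _ = g * ea * g⁻¹ * (g * x * g⁻¹) := hx.eq
          _ = _ := by group
      exact mul_left_cancel (mul_right_cancel h2)
  rw [h1]
  rcases h with h | h | h | h <;> rw [h]
  · exact Iff.rfl
  · rw [Commute.inv_right_iff]; exact Iff.rfl
  · exact (comm_iff _).symm
  · rw [Commute.inv_right_iff]; exact (comm_iff _).symm

theorem mem_N_of_ok {g : ↥(alternatingGroup (Fin 6))}
    (h : ok ((g : Perm (Fin 6)) 0) ((g : Perm (Fin 6)) 1) ((g : Perm (Fin 6)) 2) = true) : g ∈ N := by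
  have hi := (g : Perm (Fin 6)).injective
  have h1 := ok_conj _ _ _ (hi.ne (by decide)) (hi.ne (by decide)) (hi.ne (by decide)) h
  have h2 : swap ((g : Perm (Fin 6)) 0) ((g : Perm (Fin 6)) 1) * swap ((g : Perm (Fin 6)) 1) ((g : Perm (Fin 6)) 2) =
      ((g * ea * g⁻¹ : ↥(alternatingGroup (Fin 6))) : Perm (Fin 6)) := by
    change _ = (g : Perm (Fin 6)) * (swap 0 1 * swap 1 2) * (g : Perm (Fin 6))⁻¹
    rw [Equiv.swap_apply_apply, Equiv.swap_apply_apply]
    group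
  rw [h2] at h1
  apply mem_N_of
  rcases h1 with h1 | h1 | h1 | h1
  · exact Or.inl (Subtype.ext h1)
  · exact Or.inr (Or.inl (Subtype.ext h1))
  · exact Or.inr (Or.inr (Or.inl (Subtype.ext h1)))
  · exact Or.inr (Or.inr (Or.inr (Subtype.ext h1)))

theorem dec (g : ↥(alternatingGroup (Fin 6))) : g ∈ N ∨ ∃ e ∈ E, ∃ n ∈ N, g = e * eg * n := by
  have hi := (g : Perm (Fin 6)).injective
  by_cases h : ok ((g : Perm (Fin 6)) 0) ((g : Perm (Fin 6)) 1) ((g : Perm (Fin 6)) 2) = true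
  · exact Or.inl (mem_N_of_ok h)
  · right
    obtain ⟨i, j, hij⟩ := reach _ _ _ (hi.ne (by decide : (0 : Fin 6) ≠ 1)) (hi.ne (by decide : (1 : Fin 6) ≠ 2))
      (hi.ne (by decide : (0 : Fin 6) ≠ 2)) (Bool.not_eq_true _ ▸ h)
    have h1 : eg⁻¹ * ea ^ (i : ℕ) * eb ^ (j : ℕ) * g ∈ N := mem_N_of_ok hij
    refine ⟨(ea ^ (i : ℕ) * eb ^ (j : ℕ))⁻¹, inv_mem ?_, _, h1, by group⟩
    exact (((Commute.refl ea).pow_left _).mul_left (ea_eb.symm.pow_left _)).eq

theorem free' : ∀ e ∈ E, eg⁻¹ * e * eg ∈ N → e = 1 := by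
  intro e he h
  obtain ⟨i, j, rfl⟩ := mem_cent_a he
  have h1 := (mem_N.1 h ea).1 rfl
  rw [mem_E] at h1
  obtain ⟨rfl, rfl⟩ := free i j (by
    have h2 := congrArg Subtype.val h1
    simpa only [Subgroup.coe_mul, Subgroup.coe_inv, Subgroup.coe_pow, mul_assoc, mul_inv_rev, inv_inv, coe_ea, coe_eb,
      coe_eg] using h2)
  rfl

/-- **An involutive automorphism of `A₆` fixing `(0 1 2)`, `(3 4 5)` is trivial.** -/
theorem aut (f : ↥(alternatingGroup (Fin 6)) →* ↥(alternatingGroup (Fin 6))) (hff : ∀ g, f (f g) = g) (ha : f ea = ea)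
    (hb : f eb = eb) (g : ↥(alternatingGroup (Fin 6))) : f g = g := by
  have hfE : ∀ e ∈ E, f e = e := by
    intro e he
    obtain ⟨i, j, rfl⟩ := mem_cent_a he
    rw [map_mul, map_pow, map_pow, ha, hb]
  have hN : eg ∉ N := by
    intro h
    exact pg_not (congrArg Subtype.val (mem_E.1 ((mem_N.1 h ea).1 rfl)))
  refine abs_fix E N f hff hfE ?_ ?_ hN dec free' ?_ g
  · intro n hn
    rw [mem_N] at hn ⊢
    intro x
    have h2 : ∀ y, y ∈ E ↔ f y ∈ E := by
      intro y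
      constructor
      · intro hy; rw [hfE y hy]; exact hy
      · intro hy
        have := hfE _ hy
        rw [hff] at this
        rw [this]; exact hy
    rw [h2 x, hn (f x), h2, map_mul, map_mul, map_inv, hff x]
  · intro e he hee
    obtain ⟨i, j, rfl⟩ := mem_cent_a he
    have h1 : (ea ^ (i : ℕ) * eb ^ (j : ℕ)) ^ 3 = 1 := by
      rw [(ea_eb.pow_pow _ _).mul_pow, ← pow_mul, ← pow_mul, mul_comm (i : ℕ), mul_comm (j : ℕ), pow_mul, pow_mul,
        ea_pow, eb_pow, one_pow, one_pow, mul_one]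
    rw [pow_succ, pow_two, hee, one_mul] at h1
    exact h1
  · have hs : IsSimpleGroup ↥(alternatingGroup (Fin 6)) := alternatingGroup.isSimpleGroup (by simp)
    rcases hs.eq_bot_or_eq_top_of_normal _ N.normalCore_normal with h | h
    · exact h
    · exfalso
      apply hN
      apply N.normalCore_le
      rw [h]
      exact mem_top _

end Cfsg.Agent.H16.E6.Alt6

namespace Cfsg.Agent.H163.E6.Cov

open Cfsg Cfsg.Lie Module Subgroup Equiv
open Cfsg.Agent.ChevalleyStructure.E6Min.Tables Cfsg.Agent.ChevalleyStructure.E6Min.Basic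
  Cfsg.Agent.ChevalleyStructure.E6Min.Adjoint
open Cfsg.Agent.H952.F4 (ev es matRep MaxAlt)
open Cfsg.Agent.H16.E6

universe u

variable {F : Type u} [Field F] [Finite F] {H : Subgroup ↥(chevE6.group F)} {n : ℕ}
  {φ : ↥(alternatingGroup (Fin n)) →* ↥(chevE6.group F)}

/-- `H = A₇` in the cover case -/
theorem seven_sit {φ : ↥(alternatingGroup (Fin 7)) →* ↥(chevE6.group F)} (hM : Sit H 7 φ) {ω : Fˣ} (hc : Cover φ ω) :
    H = φ.range := by
  classical
  refine le_antisymm ?_ hM.le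
  intro h hh
  -- the automorphism
  have hex : ∀ g ∈ H, ∀ x, ∃ y, φ y = g * φ x * g⁻¹ := fun g hg x => hM.norm g hg (φ x) ⟨x, rfl⟩
  choose f hf using hex h hh
  have hinj : Function.Injective f := by
    intro x y hxy
    have h1 := hf x
    rw [hxy, hf y] at h1
    exact hM.inj (mul_left_cancel (mul_right_cancel h1)).symm
  let α : MulAut ↥(alternatingGroup (Fin 7)) := MulEquiv.ofBijective
    (MonoidHom.mk' f (fun x y => hM.inj (by rw [hf, map_mul, map_mul, hf, hf]; group)))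
    (Finite.injective_iff_bijective.mp hinj)
  obtain ⟨s, hs⟩ := (S2119.result 7 (by norm_num) (by norm_num)).2 α
  have hs' : ∀ x : ↥(alternatingGroup (Fin 7)), ((f x : ↥(alternatingGroup (Fin 7))) : Perm (Fin 7)) = s * x * s⁻¹ := by
    intro x
    have h1 : (MulAut.conjNormal s x : ↥(alternatingGroup (Fin 7))) = f x := by rw [hs]; rfl
    rw [← h1, MulAut.conjNormal_apply]
  rcases Int.units_eq_one_or (Perm.sign s) with hsg | hsg
  · -- even
    let t : ↥(alternatingGroup (Fin 7)) := ⟨s, Perm.mem_alternatingGroup.mpr hsg⟩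
    have hft : ∀ x, f x = t * x * t⁻¹ := fun x => Subtype.ext (hs' x)
    have hm : h * (φ t)⁻¹ = 1 := by
      refine hM.cent _ (mul_mem hh (inv_mem (hM.le ⟨t, rfl⟩))) fun x => ?_
      have h1 : h * φ (t⁻¹ * x * t) * h⁻¹ = φ x := by
        rw [← hf, hft]; congr 1; group
      rw [map_mul, map_mul, map_inv] at h1
      calc φ x * (h * (φ t)⁻¹) = h * ((φ t)⁻¹ * φ x * φ t) * h⁻¹ * (h * (φ t)⁻¹) := by rw [h1]
        _ = h * (φ t)⁻¹ * φ x := by group
    exact ⟨t, (mul_inv_eq_one.mp hm).symm⟩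
  · -- odd
    exfalso
    let t : ↥(alternatingGroup (Fin 7)) := ⟨s⁻¹ * swap 0 1, Perm.mem_alternatingGroup.mpr (by
      rw [map_mul, map_inv, hsg]; decide)⟩
    let a : ↥(alternatingGroup (Fin 7)) := ⟨swap 1 0 * swap 1 2, by rw [Perm.mem_alternatingGroup]; decide⟩
    let b : ↥(alternatingGroup (Fin 7)) := ⟨swap 4 3 * swap 4 5, by rw [Perm.mem_alternatingGroup]; decide⟩
    have ha : (a : Perm (Fin 7)).cycleType = {3} := by
      have h1 : Perm.IsThreeCycle (swap (1 : Fin 7) 0 * swap 1 2) :=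
        Perm.isThreeCycle_swap_mul_swap_same (by decide) (by decide) (by decide)
      exact h1
    have hb : (b : Perm (Fin 7)).cycleType = {3} := by
      have h1 : Perm.IsThreeCycle (swap (4 : Fin 7) 3 * swap 4 5) :=
        Perm.isThreeCycle_swap_mul_swap_same (by decide) (by decide) (by decide)
      exact h1
    have hab : (a : Perm (Fin 7)).Disjoint b := by
      intro i
      revert i
      decide
    obtain ⟨x, hx⟩ := ad_surjective (φ a)
    obtain ⟨y, hy⟩ := ad_surjective (φ b)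
    obtain ⟨k, hk⟩ := ad_surjective (h * φ t)
    have hconj : ∀ c : ↥(alternatingGroup (Fin 7)), ∀ d : ↥(alternatingGroup (Fin 7)),
        (swap 0 1 * (c : Perm (Fin 7)) * (swap 0 1)⁻¹ = (d : Perm (Fin 7))) → (h * φ t) * φ c * (h * φ t)⁻¹ = φ d := by
      intro c d hcd
      have h1 : f (t * c * t⁻¹) = d := by
        apply Subtype.ext
        rw [hs', ← hcd]
        change s * (s⁻¹ * swap 0 1 * (c : Perm (Fin 7)) * (s⁻¹ * swap 0 1)⁻¹) * s⁻¹ = _
        group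
      rw [← h1, hf, map_mul, map_mul, map_inv]
      group
    have hka : ad F (k * x * k⁻¹) = φ a⁻¹ := by
      rw [map_mul, map_mul, map_inv, hk, hx]
      exact hconj a a⁻¹ (by decide)
    have hkb : ad F (k * y * k⁻¹) = φ b := by
      rw [map_mul, map_mul, map_inv, hk, hy]
      exact hconj b b (by decide)
    -- the two correction terms
    have hz1 : ad F (x * (k * x * k⁻¹)) = 1 := by rw [map_mul, hx, hka, ← map_mul, mul_inv_cancel, map_one]
    have hz2 : ad F (y⁻¹ * (k * y * k⁻¹)) = 1 := by rw [map_mul, map_inv, hy, hkb, inv_mul_cancel]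
    set z1 := x * (k * x * k⁻¹) with hz1d
    set z2 := y⁻¹ * (k * y * k⁻¹) with hz2d
    have e1 : k * x * k⁻¹ = x⁻¹ * z1 := by rw [hz1d, inv_mul_cancel_left]
    have e2 : k * y * k⁻¹ = y * z2 := by rw [hz2d, mul_inv_cancel_left]
    have hw : ad F (x * y * x⁻¹ * y⁻¹) = 1 := by
      have hcm : a * b = b * a := Subtype.ext hab.commute.eq
      rw [map_mul, map_mul, map_mul, map_inv, map_inv, hx, hy, ← map_inv, ← map_inv, ← map_mul, ← map_mul, ← map_mul,
        hcm, mul_inv_cancel_right, mul_inv_cancel, map_one]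
    set w := x * y * x⁻¹ * y⁻¹ with hwd
    have hwc := ker_comm hw
    have e3 : k * w * k⁻¹ = w := by rw [hwc k, mul_inv_cancel_right]
    have e4 : k * w * k⁻¹ = (k * x * k⁻¹) * (k * y * k⁻¹) * (k * x * k⁻¹)⁻¹ * (k * y * k⁻¹)⁻¹ := by
      rw [hwd]; group
    have e5 : (x⁻¹ * z1) * (y * z2) * (x⁻¹ * z1)⁻¹ * (y * z2)⁻¹ = x⁻¹ * y * x * y⁻¹ := by
      have c1 := ker_comm hz1
      have c2 := ker_comm hz2
      calc (x⁻¹ * z1) * (y * z2) * (x⁻¹ * z1)⁻¹ * (y * z2)⁻¹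
          = x⁻¹ * (z1 * (y * (z2 * z1⁻¹ * x))) * z2⁻¹ * y⁻¹ := by group
        _ = x⁻¹ * ((y * (z2 * z1⁻¹ * x)) * z1) * z2⁻¹ * y⁻¹ := by rw [c1]
        _ = x⁻¹ * y * (z2 * (z1⁻¹ * x * z1)) * z2⁻¹ * y⁻¹ := by group
        _ = x⁻¹ * y * ((z1⁻¹ * x * z1) * z2) * z2⁻¹ * y⁻¹ := by rw [c2]
        _ = x⁻¹ * y * (z1⁻¹ * (x * z1)) * y⁻¹ := by group
        _ = x⁻¹ * y * (z1⁻¹ * (z1 * x)) * y⁻¹ := by rw [c1]
        _ = x⁻¹ * y * x * y⁻¹ := by group
    have e6 : w * (x⁻¹ * y * x * y⁻¹) = 1 := by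
      calc w * (x⁻¹ * y * x * y⁻¹) = (w * x⁻¹) * (y * x * y⁻¹) := by group
        _ = (x⁻¹ * w) * (y * x * y⁻¹) := by rw [hwc]
        _ = 1 := by rw [hwd]; group
    rw [e1, e2, e5] at e4
    have e7 : w * w = 1 := by
      rw [e3] at e4
      nth_rw 2 [e4]
      exact e6
    have e8 : w ^ 3 = 1 := ker_pow hw
    have e9 : w = 1 := by
      have : w ^ 3 = w * w * w := by rw [pow_succ, pow_two]
      rw [this, e7, one_mul] at e8
      exact e8
    have h1 := hc.1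
    rcases not_comm (Or.inr rfl) hM.inj hc ha hb hab hx hy with h' | h'
    · have := h'.2
      rw [← hwd, e9] at this
      exact h1 (scal_injective (F := F) (by rw [scal_one, ← this]; rfl))
    · have := h'.2
      rw [← hwd, e9] at this
      exact h1 (inv_eq_one.mp (scal_injective (F := F) (by rw [scal_one, ← this]; rfl)))

/-- an element of the kernel of `ad` of order at most 2 is trivial -/
theorem eq_one_of_ker {τ : ↥(Zgrp F)} (h2 : τ * τ = 1) (h : ad F τ = 1) : τ = 1 := by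
  have h3 := ker_pow h
  rwa [pow_succ, pow_two, h2, one_mul] at h3

/-- conjugation by an element commuting with the first factor of a commutator -/
theorem conj_lift {x y τ z : ↥(Zgrp F)} (hz : z = x * y * x⁻¹ * y⁻¹) (hzc : ad F z = 1) (hτ : τ * x = x * τ) {i j : ℕ}
    (h : ad F (τ * y * τ⁻¹) = ad F (x ^ i * y ^ j)) : z = z ^ j := by
  have hzz := ker_comm hzc
  set w := (x ^ i * y ^ j)⁻¹ * (τ * y * τ⁻¹) with hw
  have hw1 : ad F w = 1 := by rw [hw, map_mul, h, map_inv, inv_mul_cancel]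
  have hww := ker_comm hw1
  have h1 : τ * y * τ⁻¹ = x ^ i * y ^ j * w := by rw [hw, mul_inv_cancel_left]
  have h2 : τ * z * τ⁻¹ = z := by rw [hzz τ, mul_inv_cancel_right]
  have hτx : τ * x * τ⁻¹ = x := by rw [hτ, mul_inv_cancel_right]
  have h3 : τ * z * τ⁻¹ = (τ * x * τ⁻¹) * (τ * y * τ⁻¹) * (τ * x * τ⁻¹)⁻¹ * (τ * y * τ⁻¹)⁻¹ := by
    rw [hz]; group
  have h4 : x * y ^ j * x⁻¹ = z ^ j * y ^ j := by
    have h5 : x * y * x⁻¹ = z * y := by rw [hz]; group
    rw [← conj_pow, h5]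
    exact (show Commute z y from (hzz y).symm).mul_pow j
  rw [h2, hτx, h1] at h3
  refine h3.trans ?_
  calc x * (x ^ i * y ^ j * w) * x⁻¹ * (x ^ i * y ^ j * w)⁻¹
      = x ^ i * (x * (y ^ j * w) * x⁻¹) * (y ^ j * w)⁻¹ * (x ^ i)⁻¹ := by group
    _ = x ^ i * (x * (w * y ^ j) * x⁻¹) * (w * y ^ j)⁻¹ * (x ^ i)⁻¹ := by rw [hww]
    _ = x ^ i * (x * w * (y ^ j * x⁻¹)) * (w * y ^ j)⁻¹ * (x ^ i)⁻¹ := by group
    _ = x ^ i * (w * x * (y ^ j * x⁻¹)) * (w * y ^ j)⁻¹ * (x ^ i)⁻¹ := by rw [hww x]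
    _ = x ^ i * (w * (x * y ^ j * x⁻¹)) * (w * y ^ j)⁻¹ * (x ^ i)⁻¹ := by group
    _ = x ^ i * (w * (z ^ j * y ^ j)) * (w * y ^ j)⁻¹ * (x ^ i)⁻¹ := by rw [h4]
    _ = x ^ i * (w * z ^ j * w⁻¹) * (x ^ i)⁻¹ := by group
    _ = z ^ j := by
      rw [← hww, mul_inv_cancel_right, ((show Commute (x ^ i) z from hzz _).pow_right j).eq, mul_inv_cancel_right]

theorem cyc_a : ((Alt6.ea : ↥(alternatingGroup (Fin 6))) : Perm (Fin 6)).cycleType = {3} := by
  have h1 : Perm.IsThreeCycle (swap (1 : Fin 6) 0 * swap 1 2) :=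
    Perm.isThreeCycle_swap_mul_swap_same (by decide) (by decide) (by decide)
  exact h1

theorem cyc_b : ((Alt6.eb : ↥(alternatingGroup (Fin 6))) : Perm (Fin 6)).cycleType = {3} := by
  have h1 : Perm.IsThreeCycle (swap (4 : Fin 6) 3 * swap 4 5) :=
    Perm.isThreeCycle_swap_mul_swap_same (by decide) (by decide) (by decide)
  exact h1

theorem orderOf_a : orderOf Alt6.ea = 3 := by
  rw [← Subgroup.orderOf_coe]
  exact (show Perm.IsThreeCycle _ from cyc_a).orderOf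

/-- the case `n = 6` -/
theorem cov_six {φ : ↥(alternatingGroup (Fin 6)) →* ↥(chevE6.group F)} (hS : Sit H 6 φ) (hcen : Cen H φ) {ω : Fˣ}
    (hc : Cover φ ω) (hX : ∃ X : chevE6.Idx → F, X ≠ 0 ∧ ∀ h ∈ H, ∃ c : F, LK F h X = c • X) : False := by
  obtain ⟨X, hX0, hXH⟩ := hX
  have hab : (Alt6.ea : Perm (Fin 6)).Disjoint (Alt6.eb : Perm (Fin 6)) := by
    intro i
    revert i
    decide
  obtain ⟨x, hx⟩ := ad_surjective (φ Alt6.ea)
  obtain ⟨y, hy⟩ := ad_surjective (φ Alt6.eb)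
  obtain ⟨hx3, hV, hL⟩ := type_thirty (Or.inl rfl) hS.inj hc orderOf_a hx
  obtain ⟨τ, hτ2, hτ1, hτx, hτH⟩ := hcen X hX0 hXH x ⟨_, hx.symm⟩ hx3 hV hL
  apply hτ1
  refine eq_one_of_ker hτ2 ?_
  set t := ad F τ with ht
  have htt : t * t = 1 := by rw [ht, ← map_mul, hτ2, map_one]
  have htinv : t⁻¹ = t := inv_eq_of_mul_eq_one_left htt
  have hex : ∀ g, ∃ g', φ g' = t * φ g * t⁻¹ := fun g => hS.norm t hτH (φ g) ⟨g, rfl⟩
  choose f hf using hex
  let f' : ↥(alternatingGroup (Fin 6)) →* ↥(alternatingGroup (Fin 6)) :=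
    MonoidHom.mk' f (fun g h => hS.inj (by rw [hf, map_mul, map_mul, hf, hf]; group))
  have hff : ∀ g, f' (f' g) = g := by
    intro g
    apply hS.inj
    change φ (f (f g)) = φ g
    rw [hf, hf]
    calc t * (t * φ g * t⁻¹) * t⁻¹ = (t * t) * φ g * (t * t)⁻¹ := by group
      _ = φ g := by rw [htt]; group
  have hfa : f' Alt6.ea = Alt6.ea := by
    apply hS.inj
    change φ (f Alt6.ea) = _
    rw [hf, ← hx, ht, ← map_mul, ← map_inv, ← map_mul, hτx, mul_inv_cancel_right]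
  -- the image of `b`
  have hcomm : f' Alt6.eb * Alt6.ea = Alt6.ea * f' Alt6.eb := by
    have h := congrArg f' Alt6.ea_eb.eq
    rw [map_mul, map_mul, hfa] at h
    exact h.symm
  obtain ⟨i, j, hij⟩ := Alt6.mem_cent_a hcomm
  have hw : ad F (x * y * x⁻¹ * y⁻¹) = 1 := by
    rw [map_mul, map_mul, map_mul, map_inv, map_inv, hx, hy, ← map_inv, ← map_inv, ← map_mul, ← map_mul, ← map_mul,
      Alt6.ea_eb.eq, mul_inv_cancel_right, mul_inv_cancel, map_one]
  have hz1 : x * y * x⁻¹ * y⁻¹ ≠ 1 := by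
    intro e
    have h1 := hc.1
    rcases not_comm (Or.inl rfl) hS.inj hc cyc_a cyc_b hab hx hy with h' | h'
    · have := h'.2
      rw [e] at this
      exact h1 (scal_injective (F := F) (by rw [scal_one, ← this]; rfl))
    · have := h'.2
      rw [e] at this
      exact h1 (inv_eq_one.mp (scal_injective (F := F) (by rw [scal_one, ← this]; rfl)))
  have hz3 := ker_pow hw
  have hzj := conj_lift (j := (j : ℕ)) (i := (i : ℕ)) rfl hw hτx (by
    have h1 := hf Alt6.eb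
    change φ (f' Alt6.eb) = _ at h1
    rw [map_mul, map_mul, map_inv, hy, ← ht, ← h1, hij, map_mul, map_pow, map_pow, map_mul, map_pow, map_pow, hx, hy])
  set z := x * y * x⁻¹ * y⁻¹ with hz
  have hj : j = 1 := by
    match j, hzj with
    | 0, h => exact absurd (h.trans (pow_zero z)) hz1
    | 1, _ => rfl
    | 2, h =>
      exfalso
      apply hz1
      have h2 : z * z = z * 1 := by rw [mul_one]; nth_rw 3 [h]; exact (pow_two z).symm
      exact mul_left_cancel h2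
  subst hj
  have h5 : f' Alt6.eb = Alt6.ea ^ (i : ℕ) * Alt6.eb := by
    rw [hij]
    congr 1
  have h6 := hff Alt6.eb
  rw [h5, map_mul, map_pow, hfa, h5, ← mul_assoc, mul_eq_right] at h6
  have hfb : f' Alt6.eb = Alt6.eb := by
    have h7 : (Alt6.ea ^ (i : ℕ)) ^ 3 = 1 := by
      rw [← pow_mul, mul_comm, pow_mul, Alt6.ea_pow, one_pow]
    rw [pow_succ, pow_two, h6, one_mul] at h7
    rw [h5, h7, one_mul]
  have hall := Alt6.aut f' hff hfa hfb
  refine hS.cent t hτH fun g => ?_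
  have h8 := hf g
  have h9 : f g = g := hall g
  rw [h9] at h8
  rw [eq_mul_inv_iff_mul_eq] at h8
  exact h8

/-! ### `n = 7` -/

/-- the element `(0 1 2)(3 4 5)` -/
def c7 : Perm (Fin 7) := swap 0 1 * swap 1 2 * (swap 3 4 * swap 4 5)

/-- the values of a permutation commuting with `c7` -/
def T7 (u v w : Fin 7) : Fin 7 → Fin 7 := ![u, c7 u, c7 (c7 u), v, c7 v, c7 (c7 v), w]

theorem table7 : ∀ u v w : Fin 7, c7 w = w → (∀ i, T7 u v w (T7 u v w i) = i) →
    T7 u v w = ⇑(1 : Perm (Fin 7)) ∨ T7 u v w = ⇑(swap 0 3 * swap 1 4 * swap 2 5 : Perm (Fin 7)) ∨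
    T7 u v w = ⇑(swap 0 4 * swap 1 5 * swap 2 3 : Perm (Fin 7)) ∨ T7 u v w = ⇑(swap 0 5 * swap 1 3 * swap 2 4 : Perm (Fin 7)) := by
  decide +kernel

theorem inv7 {s : Perm (Fin 7)} (hs : Perm.sign s = 1) (h2 : s * s = 1) (hc : s * c7 = c7 * s) : s = 1 := by
  have hcc : ∀ i, s (c7 i) = c7 (s i) := fun i => DFunLike.congr_fun hc i
  have hss : ∀ i, s (s i) = i := fun i => DFunLike.congr_fun h2 i
  have hT : T7 (s 0) (s 3) (s 6) = ⇑s := by
    ext i
    congr 1
    match i with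
    | 0 => rfl
    | 1 => exact (hcc 0).symm
    | 2 =>
      have := hcc 1
      rw [show (1 : Fin 7) = c7 0 by decide, hcc 0] at this
      exact this.symm
    | 3 => rfl
    | 4 => exact (hcc 3).symm
    | 5 =>
      have := hcc 4
      rw [show (4 : Fin 7) = c7 3 by decide, hcc 3] at this
      exact this.symm
    | 6 => rfl
  have h6 : c7 (s 6) = s 6 := by
    rw [← hcc]
    congr 1
  rcases table7 _ _ _ h6 (by rw [hT]; exact hss) with h | h | h | h <;> rw [hT] at h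
  · exact DFunLike.coe_injective h
  all_goals
    have h1 := DFunLike.coe_injective h
    rw [h1] at hs
    exact absurd hs (by decide)

theorem sign_c7 : Perm.sign c7 = 1 := by decide

/-- the case `n = 7` -/
theorem cov_seven {φ : ↥(alternatingGroup (Fin 7)) →* ↥(chevE6.group F)} (hS : Sit H 7 φ) (hcen : Cen H φ) {ω : Fˣ}
    (hc : Cover φ ω) (hX : ∃ X : chevE6.Idx → F, X ≠ 0 ∧ ∀ h ∈ H, ∃ c : F, LK F h X = c • X) : False := by
  obtain ⟨X, hX0, hXH⟩ := hX
  set c : ↥(alternatingGroup (Fin 7)) := ⟨c7, Perm.mem_alternatingGroup.2 sign_c7⟩ with hcd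
  have hco : orderOf c = 3 := orderOf_eq_prime (Subtype.ext (by decide)) (fun h => absurd (congrArg Subtype.val h) (by decide))
  obtain ⟨x, hx⟩ := ad_surjective (φ c)
  obtain ⟨hx3, hV, hL⟩ := type_thirty (Or.inr rfl) hS.inj hc hco hx
  obtain ⟨τ, hτ2, hτ1, hτx, hτH⟩ := hcen X hX0 hXH x ⟨_, hx.symm⟩ hx3 hV hL
  apply hτ1
  refine eq_one_of_ker hτ2 ?_
  rw [seven_sit hS hc] at hτH
  obtain ⟨s, hs⟩ := hτH
  have h1 : s * s = 1 := hS.inj (by rw [map_mul, hs, ← map_mul, hτ2, map_one, map_one])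
  have h2 : s * c = c * s := hS.inj (by rw [map_mul, map_mul, hs, ← hx, ← map_mul, ← map_mul, hτx])
  have h3 : s = 1 := Subtype.ext (inv7 (Perm.mem_alternatingGroup.1 s.2) (congrArg Subtype.val h1) (congrArg Subtype.val h2))
  rw [← hs, h3, map_one]

/-- **The covers of `A₆`, `A₇`** when the normalizer stabilizes a line of the Lie algebra. -/
theorem cov_odd (hn : n = 6 ∨ n = 7) (hS : Sit H n φ) (hcen : Cen H φ)
    (hX : ∃ X : chevE6.Idx → F, X ≠ 0 ∧ ∀ h ∈ H, ∃ c : F, LK F h X = c • X) {ω : Fˣ} (hc : Cover φ ω) : False := by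
  rcases hn with rfl | rfl
  · exact cov_six hS hcen hc hX
  · exact cov_seven hS hcen hc hX

end Cfsg.Agent.H163.E6.Cov
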